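import Groth.Agent.ResProp.EF.K980.BC

/-!
# `B ⊗[k] N → BC (inr B) N` is bijective, `B ⊗[k] BC x M → BC x' M` is bijective for `x' = inr ∘ x` (for AD3)

`inr B : R' →+* B ⊗[k] R'`, `r ↦ 1 ⊗ r`; `kap : b ⊗ n ↦ (b ⊗ 1) • bc n`; `mu : BC f (BC x M) ≃ BC x' M`;
`kapx : b ⊗ z ↦ (b ⊗ 1) • tr z`.
-/

set_option autoImplicit false

universe u

open TensorProduct

namespace Groth.Agent.ResProp.EF.K784

open K980

section Kap

variable {k : Type*} [CommRing k] {R' : Type*} [CommRing R'] [Algebra k R'] (B : Type*) [CommRing B] [Algebra k B]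

/-- `R' → B ⊗ R'`. -/
abbrev inr : R' →+* B ⊗[k] R' := (Algebra.TensorProduct.includeRight : R' →ₐ[k] B ⊗[k] R').toRingHom

theorem inr_apply (r : R') : inr (k := k) B r = 1 ⊗ₜ[k] r := rfl

variable (N : Type*) [AddCommGroup N] [Module k N] [Module R' N] [IsScalarTower k R' N]

/-- `b ⊗ n ↦ (b ⊗ 1) • bc n`. -/
noncomputable def kap : B ⊗[k] N →+ BC (inr (k := k) (R' := R') B) N :=
  TensorProduct.liftAddHom
    { toFun := fun b =>
        { toFun := fun n => (b ⊗ₜ[k] (1 : R')) • bc (inr (k := k) (R' := R') B) n
          map_zero' := by rw [map_zero, smul_zero]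
          map_add' := fun m n => by rw [map_add, smul_add] }
      map_zero' := by ext n; show ((0 : B) ⊗ₜ[k] (1 : R')) • bc (inr (k := k) (R' := R') B) n = 0; rw [TensorProduct.zero_tmul, zero_smul]
      map_add' := fun a b => by
        ext n
        show ((a + b) ⊗ₜ[k] (1 : R')) • bc (inr (k := k) (R' := R') B) n =
          (a ⊗ₜ[k] (1 : R')) • bc (inr (k := k) (R' := R') B) n + (b ⊗ₜ[k] (1 : R')) • bc (inr (k := k) (R' := R') B) n
        rw [TensorProduct.add_tmul, add_smul] }
    (fun c b n => by
      show ((c • b) ⊗ₜ[k] (1 : R')) • bc (inr (k := k) (R' := R') B) n =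
        (b ⊗ₜ[k] (1 : R')) • bc (inr (k := k) (R' := R') B) (c • n)
      have h : c • n = (algebraMap k R' c) • n := (algebraMap_smul R' c n).symm
      rw [h, LinearMap.map_smulₛₗ, smul_smul, inr_apply, Algebra.TensorProduct.tmul_mul_tmul, mul_one, one_mul,
        Algebra.algebraMap_eq_smul_one, TensorProduct.tmul_smul, TensorProduct.smul_tmul'])

theorem kap_tmul (b : B) (n : N) : kap (R' := R') B N (b ⊗ₜ[k] n) = (b ⊗ₜ[k] (1 : R')) • bc (inr (k := k) (R' := R') B) n :=
  rfl

/-- the `k`-linear map `r ↦ r • n`. -/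
def orb (n : N) : R' →ₗ[k] N where
  toFun r := r • n
  map_add' a b := add_smul a b n
  map_smul' c r := by rw [RingHom.id_apply, smul_assoc]

/-- the inverse of `kap`. -/
noncomputable def rho : BC (inr (k := k) (R' := R') B) N →+ B ⊗[k] N :=
  TensorProduct.liftAddHom (R := R') (M := Al (inr (k := k) (R' := R') B)) (N := N)
    { toFun := fun a =>
        { toFun := fun n => (orb (k := k) (R' := R') N n).lTensor B (show B ⊗[k] R' from a)
          map_zero' := by
            have : orb (k := k) (R' := R') N 0 = 0 := by ext r; exact smul_zero r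
            rw [this, LinearMap.lTensor_zero]; rfl
          map_add' := fun m n => by
            have : orb (k := k) (R' := R') N (m + n) = orb N m + orb N n := by ext r; exact smul_add r m n
            rw [this, LinearMap.lTensor_add]; rfl }
      map_zero' := by ext n; exact map_zero ((orb (k := k) (R' := R') N n).lTensor B)
      map_add' := fun a b => by
        ext n
        exact map_add ((orb (k := k) (R' := R') N n).lTensor B) (show B ⊗[k] R' from a) (show B ⊗[k] R' from b) }
    (fun r a n => by
      show (orb (k := k) (R' := R') N n).lTensor B (inr (k := k) B r * (show B ⊗[k] R' from a)) =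
        (orb (k := k) (R' := R') N (r • n)).lTensor B (show B ⊗[k] R' from a)
      generalize (show B ⊗[k] R' from a) = c
      induction c with
      | zero => rw [mul_zero, map_zero, map_zero]
      | tmul b r' =>
        rw [inr_apply, Algebra.TensorProduct.tmul_mul_tmul, one_mul, LinearMap.lTensor_tmul, LinearMap.lTensor_tmul]
        show b ⊗ₜ[k] ((r * r') • n) = b ⊗ₜ[k] (r' • r • n)
        rw [smul_smul, mul_comm]
      | add a b ha hb => rw [mul_add, map_add, map_add, ha, hb])

theorem rho_kap (z : B ⊗[k] N) : rho (R' := R') B N (kap (R' := R') B N z) = z := by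
  induction z with
  | zero => rw [map_zero, map_zero]
  | tmul b n =>
    rw [kap_tmul, BC.smul_bc_eq]
    show (orb (k := k) (R' := R') N n).lTensor B (b ⊗ₜ[k] (1 : R')) = _
    rw [LinearMap.lTensor_tmul]
    show b ⊗ₜ[k] ((1 : R') • n) = _
    rw [one_smul]
  | add a b ha hb => rw [map_add, map_add, ha, hb]

theorem kap_injective : Function.Injective (kap (k := k) (R' := R') B N) :=
  Function.LeftInverse.injective (rho_kap B N)

theorem kap_surjective : Function.Surjective (kap (k := k) (R' := R') B N) := by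
  intro z
  induction z using BC.ind with
  | h0 => exact ⟨0, map_zero _⟩
  | h1 r n =>
    induction r with
    | zero => exact ⟨0, by rw [map_zero, zero_smul]⟩
    | tmul b r' =>
      refine ⟨b ⊗ₜ (r' • n), ?_⟩
      rw [kap_tmul, LinearMap.map_smulₛₗ, smul_smul, inr_apply, Algebra.TensorProduct.tmul_mul_tmul, mul_one, one_mul]
    | add a b ha hb =>
      obtain ⟨x, hx⟩ := ha
      obtain ⟨y, hy⟩ := hb
      exact ⟨x + y, by rw [map_add, hx, hy, add_smul]⟩
  | h2 a b ha hb =>
    obtain ⟨x, hx⟩ := ha
    obtain ⟨y, hy⟩ := hb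
    exact ⟨x + y, by rw [map_add, hx, hy]⟩

end Kap

section Two

variable {R R' R'' : Type*} [CommRing R] [CommRing R'] [CommRing R''] {M : Type*} [AddCommGroup M] [Module R M]
  {x : R →+* R'} {x' : R →+* R''} {f : R' →+* R''}

/-- `BC f (BC x M) → BC x' M`. -/
noncomputable def mu (h : f.comp x = x') : BC f (BC x M) →ₗ[R''] BC x' M :=
  BC.lift (σ := RingHom.id R'') (τ := f) (RingHom.id_comp f) (BC.tr f h)

theorem mu_bc (h : f.comp x = x') (z : BC x M) : mu (M := M) h (bc f z) = BC.tr f h z := BC.lift_bc _ _ z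

/-- the inverse. -/
noncomputable def nu (h : f.comp x = x') : BC x' M →ₗ[R''] BC f (BC x M) :=
  BC.lift (σ := RingHom.id R'') (τ := x') (RingHom.id_comp x')
    { toFun := fun m => bc f (bc x m)
      map_add' := fun a b => by rw [map_add, map_add]
      map_smul' := fun r m => by rw [LinearMap.map_smulₛₗ, LinearMap.map_smulₛₗ, ← h]; rfl }

theorem nu_bc (h : f.comp x = x') (m : M) : nu (M := M) h (bc x' m) = bc f (bc x m) := BC.lift_bc _ _ m

theorem nu_tr (h : f.comp x = x') (z : BC x M) : nu (M := M) h (BC.tr f h z) = bc f z := by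
  induction z using BC.ind with
  | h0 => rw [map_zero, map_zero, map_zero]
  | h1 r m =>
    have h1 : bc f (r • bc x m) = f r • bc f (bc x m) := (bc f).map_smulₛₗ r (bc x m)
    rw [h1, LinearMap.map_smulₛₗ, BC.tr_bc, LinearMap.map_smul, nu_bc]
  | h2 a b ha hb => rw [map_add, map_add, map_add, ha, hb]

theorem nu_mu (h : f.comp x = x') (z : BC f (BC x M)) : nu (M := M) h (mu h z) = z := by
  have : (nu (M := M) h) ∘ₗ (mu h) = LinearMap.id := BC.hom_ext fun z => by
    show nu h (mu h (bc f z)) = bc f z
    rw [mu_bc, nu_tr]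
  exact LinearMap.congr_fun this z

theorem mu_injective (h : f.comp x = x') : Function.Injective (mu (M := M) h) :=
  Function.LeftInverse.injective (nu_mu h)

theorem mu_nu (h : f.comp x = x') (z : BC x' M) : mu (M := M) h (nu h z) = z := by
  have : (mu (M := M) h) ∘ₗ (nu h) = LinearMap.id := BC.hom_ext fun m => by
    show mu h (nu h (bc x' m)) = bc x' m
    rw [nu_bc, mu_bc, BC.tr_bc]
  exact LinearMap.congr_fun this z

theorem mu_surjective (h : f.comp x = x') : Function.Surjective (mu (M := M) h) :=
  Function.RightInverse.surjective (mu_nu h)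

end Two

section Kapx

variable {k : Type*} [CommRing k] {R R' : Type*} [CommRing R] [CommRing R'] [Algebra k R'] (B : Type*) [CommRing B]
  [Algebra k B] {M : Type*} [AddCommGroup M] [Module R M] {x : R →+* R'} {x' : R →+* B ⊗[k] R'}
  (h : (inr (k := k) (R' := R') B).comp x = x') [Module k (BC x M)] [IsScalarTower k R' (BC x M)]

/-- `b ⊗ z ↦ (b ⊗ 1) • tr z`. -/
noncomputable def kapx : B ⊗[k] BC x M →+ BC x' M :=
  (mu (M := M) h).toAddMonoidHom.comp (kap (k := k) (R' := R') B (BC x M))

theorem kapx_tmul (b : B) (z : BC x M) :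
    kapx B h (b ⊗ₜ[k] z) = (b ⊗ₜ[k] (1 : R')) • BC.tr (inr (k := k) (R' := R') B) h z := by
  show mu (M := M) h (kap (k := k) (R' := R') B (BC x M) (b ⊗ₜ[k] z)) = _
  rw [kap_tmul, LinearMap.map_smul, mu_bc]

theorem kapx_injective : Function.Injective (kapx (k := k) (M := M) B h) :=
  (mu_injective h).comp (kap_injective B (BC x M))

theorem kapx_surjective : Function.Surjective (kapx (k := k) (M := M) B h) :=
  (mu_surjective h).comp (kap_surjective B (BC x M))

theorem kapx_smul (c : B) (z : B ⊗[k] BC x M) :
    kapx B h (c • z) = (c ⊗ₜ[k] (1 : R')) • kapx B h z := by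
  induction z with
  | zero => rw [smul_zero, map_zero, smul_zero]
  | tmul b z =>
    rw [TensorProduct.smul_tmul', kapx_tmul, kapx_tmul, smul_smul, Algebra.TensorProduct.tmul_mul_tmul, one_mul]
    rfl
  | add a b ha hb => rw [smul_add, map_add, map_add, ha, hb, smul_add]

end Kapx

section Flat

variable {k : Type*} [CommRing k] {R' : Type*} [CommRing R'] [Algebra k R'] (B : Type*) [CommRing B] [Algebra k B]

/-- `R' → B ⊗ R'` is flat for `B` flat. -/
theorem inr_flat [Module.Flat k B] : (inr (k := k) (R' := R') B).Flat := by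
  letI := (inr (k := k) (R' := R') B).toAlgebra
  let e : B ⊗[k] R' ≃ₗ[R'] R' ⊗[k] B :=
    { TensorProduct.comm k B R' with
      map_smul' := fun r z => by
        show TensorProduct.comm k B R' (inr (k := k) B r * z) = r • TensorProduct.comm k B R' z
        induction z with
        | zero => rw [mul_zero, map_zero, smul_zero]
        | tmul b r' =>
          rw [inr_apply, Algebra.TensorProduct.tmul_mul_tmul, one_mul, TensorProduct.comm_tmul, TensorProduct.comm_tmul,
            TensorProduct.smul_tmul', smul_eq_mul]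
        | add a b ha hb => rw [mul_add, map_add, ha, hb, map_add, smul_add] }
  have h : Module.Flat R' (R' ⊗[k] B) := Module.Flat.baseChange k R' B
  exact Module.Flat.of_linearEquiv e

end Flat

end Groth.Agent.ResProp.EF.K784
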